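import Groth.Agent.Lib.Helper39.PushCompl.Normal
import Groth.Agent.Lib.Helper73.DimFormula.UnivCatenary

/-!
# helper39: `H^1_I(M)` finite over a Nagata universally catenary ring under a codimension
condition on `Ass M`
-/

set_option autoImplicit false
universe u

namespace Groth.Agent.Lib.Helper39.PushCompl

variable (A : Type u) [CommRing A] [IsNoetherianRing A]

/-- the height of a prime of `A ⧸ p` as an order height in `Set.Ici p`. -/
theorem height_quotient_eq (p : PrimeSpectrum A) (Q : Ideal (A ⧸ p.asIdeal)) [hQ : Q.IsPrime] :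
    ∃ (q : PrimeSpectrum A) (hpq : p ≤ q), q.asIdeal = Q.comap (Ideal.Quotient.mk p.asIdeal) ∧
      Q.height = Order.height (⟨q, hpq⟩ : Set.Ici p) := by
  let e := p.asIdeal.primeSpectrumQuotientOrderIsoZeroLocus
  have hset : PrimeSpectrum.zeroLocus (p.asIdeal : Set A) = Set.Ici p := by
    ext q
    rw [PrimeSpectrum.mem_zeroLocus, Set.mem_Ici, SetLike.coe_subset_coe]
    rfl
  let e' : PrimeSpectrum (A ⧸ p.asIdeal) ≃o Set.Ici p := e.trans (OrderIso.setCongr _ _ hset)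
  refine ⟨(e' ⟨Q, hQ⟩).1, (e' ⟨Q, hQ⟩).2, rfl, ?_⟩
  have h1 : Q.height = Order.height (⟨Q, hQ⟩ : PrimeSpectrum (A ⧸ p.asIdeal)) :=
    PrimeSpectrum.height_eq_orderHeight ⟨Q, hQ⟩
  rw [h1, ← Order.height_orderIso e' ⟨Q, hQ⟩]

theorem finite_H1_of_nagata (hN : CAlg.IsNagata A) (hU : CAlg.IsUniversallyCatenary A)
    (I : Ideal A) (M : Type u) [AddCommGroup M] [Module A M] [Module.Finite A M]
    (h : ∀ (p q : PrimeSpectrum A) (hpq : p ≤ q), p.asIdeal ∈ associatedPrimes A M →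
      ¬ I ≤ p.asIdeal → I ≤ q.asIdeal → (2 : ℕ∞) ≤ Order.height (⟨q, hpq⟩ : Set.Ici p)) :
    Module.Finite A (LocCoh.H I 1 M) := by
  have hmain := Groth.Agent.Lib.Helper39.H1Fin.main I M
  unfold Groth.Agent.Lib.Helper39.H1Fin.P at hmain
  rw [hmain]
  intro p hp hIp
  have hpp : p.IsPrime := IsAssociatedPrime.isPrime hp
  obtain ⟨φ, hφ⟩ := Helper98.CechRestrict.lc_restrict (R := A) (R' := A ⧸ p) I (A ⧸ p) 1
  rw [← finite_iff_of_semilinear_addEquiv Ideal.Quotient.mk_surjective φ hφ]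
  refine finite_H1_of_height (A ⧸ p)
    (Groth.Agent.Lib.Helper73.isUniversallyCatenary_quotient hU p) ?_ _ ?_
  · exact hN.2 p (FractionRing (A ⧸ p)) inferInstance
  · rw [Ideal.height_eq_inf_minimalPrimes]
    refine le_iInf₂ fun Q hQ => ?_
    have hQp : Q.IsPrime := hQ.1.1
    obtain ⟨q, hpq, hq, hht⟩ := height_quotient_eq A ⟨p, hpp⟩ Q
    rw [hht]
    refine h ⟨p, hpp⟩ q hpq hp hIp ?_
    rw [hq, ← Ideal.map_le_iff_le_comap]
    exact hQ.1.2

end Groth.Agent.Lib.Helper39.PushCompl
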