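import Groth.Agent.Lib.Helper39.PushCompl.Frac
import Groth.Agent.Lib.Helper39.PushCompl.Regular

/-!
# helper39: the ring of sections over the complement of `V(J)` in `Spec B`, `B` a domain, is a
finite `B`-algebra as soon as `H^1_J(B)` is finite.
-/

set_option autoImplicit false
universe u

namespace Groth.Agent.Lib.Helper39.PushCompl

open LocCoh

variable (B : Type u) [CommRing B] [IsDomain B] (J : Ideal B)

/-- the ring of sections of the structure sheaf over the complement of `V(J)`, inside the fraction
field. -/
def secAlg : Subalgebra B (FractionRing B) where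
  carrier := {x | ∀ (p : Ideal B) [p.IsPrime], ¬ J ≤ p →
    ∃ s : B, s ∉ p ∧ ∃ a : B,
      algebraMap B (FractionRing B) a = algebraMap B (FractionRing B) s * x}
  mul_mem' := by
    intro x y hx hy p _ hp
    obtain ⟨s, hs, a, ha⟩ := hx p hp
    obtain ⟨s', hs', a', ha'⟩ := hy p hp
    refine ⟨s * s', fun h => (Ideal.IsPrime.mem_or_mem ‹_› h).elim hs hs', a * a', ?_⟩
    rw [map_mul, map_mul, ha, ha']
    ring
  add_mem' := by
    intro x y hx hy p _ hp
    obtain ⟨s, hs, a, ha⟩ := hx p hp
    obtain ⟨s', hs', a', ha'⟩ := hy p hp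
    refine ⟨s * s', fun h => (Ideal.IsPrime.mem_or_mem ‹_› h).elim hs hs', a * s' + a' * s, ?_⟩
    rw [map_add, map_mul, map_mul, map_mul, ha, ha']
    ring
  algebraMap_mem' := by
    intro r p _ hp
    exact ⟨1, fun h => (Ideal.IsPrime.ne_top ‹_›) ((Ideal.eq_top_iff_one p).2 h), r,
      by rw [map_one, one_mul]⟩

theorem finite_secAlg [IsNoetherianRing B] (hJ : J ≠ ⊥)
    (hfin : Module.Finite B (LocCoh.H J 1 B)) : Module.Finite B (secAlg B J) := by
  have hD : Module.Finite B (DT J B) := (finite_DT_iff J B).2 hfin
  have hR : Module.Finite B (LinearMap.range (toFrac B J hJ)) := Module.Finite.range _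
  have hRN : IsNoetherian B (LinearMap.range (toFrac B J hJ)) :=
    isNoetherian_of_isNoetherianRing_of_finite B _
  have hle : Subalgebra.toSubmodule (secAlg B J) ≤ LinearMap.range (toFrac B J hJ) := by
    intro x hx
    exact mem_range_toFrac B J hJ x hx
  have hN : IsNoetherian B (Subalgebra.toSubmodule (secAlg B J)) := isNoetherian_of_le hle
  have : Module.Finite B (Subalgebra.toSubmodule (secAlg B J)) := inferInstance
  exact Module.Finite.equiv (Subalgebra.toSubmoduleEquiv (secAlg B J))

end Groth.Agent.Lib.Helper39.PushCompl
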